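import Groth.Agent.An.H869.Growth
import Mathlib.Topology.Baire.Lemmas
import Mathlib.Topology.Algebra.Module.Cardinality
import Mathlib.Topology.Baire.CompleteMetrizable
import Mathlib.Topology.Baire.LocallyCompactRegular
import Mathlib.LinearAlgebra.FreeModule.StrongRankCondition
import Mathlib.RingTheory.Polynomial.Basic
import Mathlib.Algebra.Polynomial.Roots

/-!
# Separately rational continuous functions are rational

`exists_rational` : a continuous function on a box of `ℂⁿ` whose restriction to every line parallel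
to a coordinate axis is rational is a rational function on a smaller box.  (Baire category theorem
and linear algebra; no complex analysis.)
-/

set_option autoImplicit false

namespace Groth.Agent.Gaga.H563.SepRat

open MvPolynomial Topology Filter
open Groth.Agent.An

section Alg

variable {A : Type*} [CommRing A]

/-- The value at `w` of the polynomial with coefficients `u`. -/
def evl {N : ℕ} (u : Fin (N + 1) → A) (w : A) : A := ∑ k : Fin (N + 1), u k * w ^ (k : ℕ)

/-- The polynomial with coefficients `u`. -/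
noncomputable def toPoly {N : ℕ} (u : Fin (N + 1) → A) : Polynomial A :=
  ∑ k : Fin (N + 1), Polynomial.monomial (k : ℕ) (u k)

lemma eval_toPoly {N : ℕ} (u : Fin (N + 1) → A) (w : A) : (toPoly u).eval w = evl u w := by
  simp [toPoly, evl, Polynomial.eval_finsetSum, Polynomial.eval_monomial]

lemma natDegree_toPoly_le {N : ℕ} (u : Fin (N + 1) → A) : (toPoly u).natDegree ≤ N := by
  refine Polynomial.natDegree_sum_le_of_forall_le _ _ fun k _ => ?_
  exact (Polynomial.natDegree_monomial_le _).trans (Nat.lt_succ_iff.1 k.2)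

lemma coeff_toPoly {N : ℕ} (u : Fin (N + 1) → A) (k : Fin (N + 1)) :
    (toPoly u).coeff (k : ℕ) = u k := by
  rw [toPoly, Polynomial.finsetSum_coeff]
  simp only [Polynomial.coeff_monomial]
  rw [Finset.sum_eq_single k]
  · simp
  · intro b _ hb
    rw [if_neg]
    exact fun h => hb (Fin.ext h)
  · simp

lemma toPoly_eq_zero {N : ℕ} {u : Fin (N + 1) → A} (h : toPoly u = 0) : u = 0 := by
  funext k
  rw [← coeff_toPoly u k, h]
  simp

lemma toPoly_coeff {N : ℕ} (p : Polynomial A) (hp : p.natDegree ≤ N) :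
    toPoly (fun k : Fin (N + 1) => p.coeff k) = p := by
  rw [toPoly]
  rw [Fin.sum_univ_eq_sum_range (fun k => Polynomial.monomial k (p.coeff k)) (N + 1)]
  exact (p.as_sum_range' (N + 1) (Nat.lt_succ_iff.2 hp)).symm

/-- `2N+1` homogeneous linear equations in `2N+2` unknowns over a domain have a nonzero solution. -/
lemma exists_solution [Nontrivial A] (N : ℕ) (t P Q : Fin (2 * N + 1) → A) :
    ∃ p q : Fin (N + 1) → A, (p ≠ 0 ∨ q ≠ 0) ∧ ∀ j, Q j * evl p (t j) = P j * evl q (t j) := by
  classical
  let F : ((Fin (N + 1) ⊕ Fin (N + 1)) → A) →ₗ[A] (Fin (2 * N + 1) → A) :=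
    { toFun := fun v j => Q j * evl (fun k => v (Sum.inl k)) (t j) -
        P j * evl (fun k => v (Sum.inr k)) (t j)
      map_add' := by
        intro v w
        funext j
        simp only [evl, Pi.add_apply, add_mul, Finset.sum_add_distrib, mul_add]
        ring
      map_smul' := by
        intro c v
        funext j
        simp only [evl, Pi.smul_apply, smul_eq_mul, RingHom.id_apply, mul_assoc, ← Finset.mul_sum]
        ring }
  have hF : ¬ Function.Injective F := by
    intro hinj
    have h := card_le_of_injective A F hinj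
    simp only [Fintype.card_sum, Fintype.card_fin] at h
    omega
  rw [injective_iff_map_eq_zero] at hF
  push Not at hF
  obtain ⟨v, hv0, hv⟩ := hF
  refine ⟨fun k => v (Sum.inl k), fun k => v (Sum.inr k), ?_, fun j => ?_⟩
  · by_contra hcon
    push Not at hcon
    apply hv
    funext i
    rcases i with i | i
    · exact congrFun hcon.1 i
    · exact congrFun hcon.2 i
  · exact sub_eq_zero.1 (congrFun hv0 j)

end Alg

lemma continuous_evl {N : ℕ} (u : Fin (N + 1) → ℂ) : Continuous fun w : ℂ => evl u w := by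
  unfold evl
  fun_prop

/-- Uniform degree bound on a nonempty open set, by the Baire category theorem. -/
lemma exists_uniform_degree {X : Type*} [TopologicalSpace X] [BaireSpace X] [Nonempty X]
    (D : Set ℂ) (g : ℂ → X → ℂ) (hg : ∀ w ∈ D, Continuous (g w))
    (h : ∀ x, ∃ p q : Polynomial ℂ, q ≠ 0 ∧ ∀ w ∈ D, q.eval w * g w x = p.eval w) :
    ∃ (N : ℕ) (U : Set X), IsOpen U ∧ U.Nonempty ∧ ∀ x ∈ U, ∃ p q : Polynomial ℂ,
      (p ≠ 0 ∨ q ≠ 0) ∧ p.natDegree ≤ N ∧ q.natDegree ≤ N ∧
        ∀ w ∈ D, q.eval w * g w x = p.eval w := by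
  classical
  let V : ℕ → Type := fun N => (Fin (N + 1) ⊕ Fin (N + 1)) → ℂ
  let S : ∀ N, Set (V N) := fun N => Metric.sphere (0 : (Fin (N + 1) ⊕ Fin (N + 1)) → ℂ) 1
  let G : ∀ N, Set (X × S N) := fun N => {xv | ∀ w ∈ D,
    evl (fun k => xv.2.1 (Sum.inr k)) w * g w xv.1 = evl (fun k => xv.2.1 (Sum.inl k)) w}
  have hG : ∀ N, IsClosed (G N) := by
    intro N
    have : G N = ⋂ w ∈ D, {xv : X × S N | evl (fun k => xv.2.1 (Sum.inr k)) w * g w xv.1 =
        evl (fun k => xv.2.1 (Sum.inl k)) w} := by
      ext xv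
      simp [G]
    rw [this]
    refine isClosed_biInter fun w hw => isClosed_eq ?_ ?_
    · refine Continuous.mul ?_ ((hg w hw).comp continuous_fst)
      unfold evl
      refine continuous_finsetSum _ fun k _ => Continuous.mul ?_ continuous_const
      exact (continuous_apply (Sum.inr k)).comp (continuous_subtype_val.comp continuous_snd)
    · unfold evl
      refine continuous_finsetSum _ fun k _ => Continuous.mul ?_ continuous_const
      exact (continuous_apply (Sum.inl k)).comp (continuous_subtype_val.comp continuous_snd)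
  let F : ℕ → Set X := fun N => Prod.fst '' (G N)
  have hF : ∀ N, IsClosed (F N) := by
    intro N
    have : CompactSpace (S N) := isCompact_iff_compactSpace.1 (isCompact_sphere _ _)
    exact isClosedMap_fst_of_compactSpace _ (hG N)
  have hcov : ⋃ N, F N = Set.univ := by
    refine Set.eq_univ_of_forall fun x => Set.mem_iUnion.2 ?_
    obtain ⟨p, q, hq, hpq⟩ := h x
    set N := max p.natDegree q.natDegree with hN
    let v : V N := Sum.elim (fun k : Fin (N + 1) => p.coeff (k : ℕ))
      (fun k : Fin (N + 1) => q.coeff (k : ℕ))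
    have hv : v ≠ 0 := by
      intro hv
      apply hq
      rw [← toPoly_coeff (N := N) q (le_max_right _ _)]
      have : (fun k : Fin (N + 1) => q.coeff (k : ℕ)) = 0 := by
        funext k
        exact congrFun hv (Sum.inr k)
      rw [this]
      simp [toPoly]
    have hvn : ‖v‖ ≠ 0 := norm_ne_zero_iff.2 hv
    refine ⟨N, ⟨x, ⟨(‖v‖⁻¹ : ℂ) • v, ?_⟩⟩, ?_, rfl⟩
    · change (‖v‖⁻¹ : ℂ) • v ∈ Metric.sphere (0 : (Fin (N + 1) ⊕ Fin (N + 1)) → ℂ) 1
      rw [mem_sphere_zero_iff_norm, norm_smul, norm_inv, Complex.norm_real, norm_norm,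
        inv_mul_cancel₀ hvn]
    · intro w hw
      have h1 := hpq w hw
      have hp' : p.eval w = evl (fun k : Fin (N + 1) => p.coeff (k : ℕ)) w := by
        rw [← eval_toPoly, toPoly_coeff _ (le_max_left _ _)]
      have hq' : q.eval w = evl (fun k : Fin (N + 1) => q.coeff (k : ℕ)) w := by
        rw [← eval_toPoly, toPoly_coeff _ (le_max_right _ _)]
      rw [hp', hq'] at h1
      have key : ∀ u : Fin (N + 1) → ℂ, evl (fun k => (‖v‖⁻¹ : ℂ) * u k) w =
          (‖v‖⁻¹ : ℂ) * evl u w := by
        intro u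
        simp only [evl, mul_assoc, Finset.mul_sum]
      change evl (fun k => (‖v‖⁻¹ : ℂ) * q.coeff (k : ℕ)) w * g w x =
        evl (fun k => (‖v‖⁻¹ : ℂ) * p.coeff (k : ℕ)) w
      rw [key, key, mul_assoc, h1]
  obtain ⟨N, hN⟩ := nonempty_interior_of_iUnion_of_closed hF hcov
  refine ⟨N, interior (F N), isOpen_interior, hN, fun x hx => ?_⟩
  obtain ⟨⟨x', v⟩, hv, hx'⟩ := interior_subset hx
  obtain rfl : x' = x := hx'
  refine ⟨toPoly (fun k => v.1 (Sum.inl k)), toPoly (fun k => v.1 (Sum.inr k)), ?_,
    natDegree_toPoly_le _, natDegree_toPoly_le _, fun w hw => ?_⟩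
  · by_contra hcon
    push Not at hcon
    have h1 := toPoly_eq_zero hcon.1
    have h2 := toPoly_eq_zero hcon.2
    have h3 : v.1 = 0 := by
      funext i
      rcases i with i | i
      · exact congrFun h1 i
      · exact congrFun h2 i
    have h4 : v.1 ∈ Metric.sphere (0 : (Fin (N + 1) ⊕ Fin (N + 1)) → ℂ) 1 := v.2
    rw [mem_sphere_zero_iff_norm, h3, norm_zero] at h4
    exact zero_ne_one h4
  · rw [eval_toPoly, eval_toPoly]
    exact hv w hw

/-- Successive shrinking of a nonempty open set. -/
lemma exists_shrink {X : Type*} [TopologicalSpace X] {ι : Type*} (s : Finset ι)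
    (R : ι → Set X → Prop) (mono : ∀ i V V', R i V → V' ⊆ V → R i V')
    (V : Set X) (hV : IsOpen V) (hne : V.Nonempty)
    (h : ∀ i ∈ s, ∀ V1 ⊆ V, IsOpen V1 → V1.Nonempty →
      ∃ V' ⊆ V1, IsOpen V' ∧ V'.Nonempty ∧ R i V') :
    ∃ V' ⊆ V, IsOpen V' ∧ V'.Nonempty ∧ ∀ i ∈ s, R i V' := by
  classical
  induction s using Finset.induction_on with
  | empty => exact ⟨V, subset_rfl, hV, hne, by simp⟩
  | insert a s ha ih =>
    obtain ⟨V1, hV1, ho1, hn1, h1⟩ := ih (fun i hi => h i (Finset.mem_insert_of_mem hi))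
    obtain ⟨V2, hV2, ho2, hn2, h2⟩ := h a (Finset.mem_insert_self _ _) V1 hV1 ho1 hn1
    refine ⟨V2, hV2.trans hV1, ho2, hn2, fun i hi => ?_⟩
    rcases Finset.mem_insert.1 hi with rfl | hi
    · exact h2
    · exact mono _ _ _ (h1 i hi) hV2

/-- The relation `q(w) f = p(w)` extends over the finite set of missing values. -/
lemma eqOn_of_finite {D : Set ℂ} (hD : IsOpen D) {a b : ℂ → ℂ} (ha : ContinuousOn a D)
    (hb : ContinuousOn b D) {T : Set ℂ} (hT : T.Finite) (h : ∀ w ∈ D, w ∉ T → a w = b w) :
    ∀ w ∈ D, a w = b w := by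
  have hsub : D ⊆ closure (D ∩ Tᶜ) := by
    have hdense : Dense (Tᶜ : Set ℂ) := Set.Countable.dense_compl ℂ hT.countable
    exact hdense.open_subset_closure_inter hD
  have h1 : Set.EqOn a b (D ∩ Tᶜ) := fun w hw => h w hw.1 hw.2
  exact h1.of_subset_closure ha hb Set.inter_subset_left hsub

lemma update_cons_succ {n : ℕ} (t : ℂ) (c : Fin n → ℂ) (i : Fin n) (w : ℂ) :
    Function.update (Fin.cons t c : Fin (n + 1) → ℂ) i.succ w =
      Fin.cons t (Function.update c i w) := by
  rw [Fin.cons_update]

lemma update_cons_zero {n : ℕ} (t : ℂ) (c : Fin n → ℂ) (w : ℂ) :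
    Function.update (Fin.cons t c : Fin (n + 1) → ℂ) 0 w = Fin.cons w c := by
  rw [Fin.update_cons_zero]

/-- **Separately rational continuous functions are rational** (open set version). -/
theorem exists_rational_open (n : ℕ) : ∀ (f : (Fin n → ℂ) → ℂ) (U : Set (Fin n → ℂ))
    (_ : IsOpen U) (_ : U.Nonempty) (_ : ContinuousOn f U)
    (_ : ∀ c ∈ U, ∀ i, ∃ p q : Polynomial ℂ, q ≠ 0 ∧
      ∀ w, Function.update c i w ∈ U → q.eval w * f (Function.update c i w) = p.eval w),
    ∃ P Q : MvPolynomial (Fin n) ℂ, Q ≠ 0 ∧ ∃ V ⊆ U, IsOpen V ∧ V.Nonempty ∧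
      ∀ z ∈ V, eval z Q * f z = eval z P := by
  classical
  induction n with
  | zero =>
    intro f U hU hne _ _
    obtain ⟨z0, hz0⟩ := hne
    refine ⟨C (f z0), 1, one_ne_zero, U, subset_rfl, hU, ⟨z0, hz0⟩, fun z _ => ?_⟩
    rw [map_one, one_mul, eval_C, Subsingleton.elim z z0]
  | succ n ih =>
    intro f U hU hne hf hsep
    obtain ⟨z1, hz1⟩ := hne
    obtain ⟨r, hr, hball⟩ := Metric.isOpen_iff.1 hU z1 hz1
    -- the product structure of the ball
    set D : Set ℂ := Metric.ball (z1 0) r with hDdef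
    set B : Set (Fin n → ℂ) := Metric.ball (Fin.tail z1) r with hBdef
    have hcons : ∀ w ∈ D, ∀ x ∈ B, (Fin.cons w x : Fin (n + 1) → ℂ) ∈ U := by
      intro w hw x hx
      apply hball
      rw [Metric.mem_ball, dist_pi_lt_iff hr]
      intro i
      refine Fin.cases ?_ (fun j => ?_) i
      · exact hw
      · rw [Fin.cons_succ]
        exact (dist_le_pi_dist x (Fin.tail z1) j).trans_lt hx
    have hDo : IsOpen D := Metric.isOpen_ball
    have hBo : IsOpen B := Metric.isOpen_ball
    have hDinf : D.Infinite := infinite_of_mem_nhds (z1 0) (Metric.ball_mem_nhds _ hr)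
    have hcontx : ∀ w ∈ D, ContinuousOn (fun x : Fin n → ℂ => f (Fin.cons w x)) B := by
      intro w hw
      refine hf.comp (f := fun x : Fin n → ℂ => (Fin.cons w x : Fin (n + 1) → ℂ)) ?_
        (fun x hx => hcons w hw x hx)
      exact (continuous_pi fun i => by
        refine Fin.cases ?_ (fun j => ?_) i
        · simpa using continuous_const
        · simpa using continuous_apply j).continuousOn
    have hcontw : ∀ x ∈ B, ContinuousOn (fun w : ℂ => f (Fin.cons w x)) D := by
      intro x hx
      refine hf.comp (f := fun w : ℂ => (Fin.cons w x : Fin (n + 1) → ℂ)) ?_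
        (fun w hw => hcons w hw x hx)
      exact (continuous_pi fun i => by
        refine Fin.cases ?_ (fun j => ?_) i
        · simpa using continuous_id'
        · simpa using continuous_const).continuousOn
    -- uniform degree
    have : BaireSpace B := hBo.baireSpace
    have : Nonempty B := ⟨⟨Fin.tail z1, Metric.mem_ball_self hr⟩⟩
    obtain ⟨N, U0, hU0o, hU0ne, hU0⟩ := exists_uniform_degree (X := B) D
      (fun w x => f (Fin.cons w x.1)) (fun w hw => (hcontx w hw).domRestrict) (by
        intro x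
        obtain ⟨p, q, hq, hpq⟩ := hsep (Fin.cons (z1 0) x.1)
          (hcons _ (Metric.mem_ball_self hr) _ x.2) 0
        refine ⟨p, q, hq, fun w hw => ?_⟩
        have := hpq w (by rw [update_cons_zero]; exact hcons w hw x.1 x.2)
        rwa [update_cons_zero] at this)
    -- nodes
    let e := hDinf.natEmbedding
    let t : Fin (2 * N + 1) → ℂ := fun j => (e (j : ℕ)).1
    have htD : ∀ j, t j ∈ D := fun j => (e (j : ℕ)).2
    have htinj : Function.Injective t := by
      intro i j hij
      exact Fin.ext (e.injective (Subtype.ext hij))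
    -- rationality of the slices at the nodes
    have hV0 : Subtype.val '' U0 ⊆ B := by
      rintro _ ⟨x, _, rfl⟩
      exact x.2
    obtain ⟨V1, hV1, hV1o, hV1ne, hV1R⟩ := exists_shrink (Finset.univ : Finset (Fin (2 * N + 1)))
      (fun j V => ∃ P Q : MvPolynomial (Fin n) ℂ, Q ≠ 0 ∧
        ∀ z ∈ V, eval z Q * f (Fin.cons (t j) z) = eval z P)
      (fun j V V' ⟨P, Q, hQ, h⟩ hV' => ⟨P, Q, hQ, fun z hz => h z (hV' hz)⟩)
      (V := Subtype.val '' U0) (hV := hBo.isOpenMap_subtype_val _ hU0o)
      (hne := hU0ne.image _)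
      (h := by
        intro j _ V hVsub hV hVne
        obtain ⟨P, Q, hQ, V', hV', hV'o, hV'ne, hPQ⟩ := ih (fun z => f (Fin.cons (t j) z)) V hV hVne
          ((hcontx _ (htD j)).mono (hVsub.trans hV0)) (by
            intro c hc i
            obtain ⟨p, q, hq, hpq⟩ := hsep (Fin.cons (t j) c)
              (hcons _ (htD j) _ (hV0 (hVsub hc))) i.succ
            refine ⟨p, q, hq, fun w hw => ?_⟩
            have h1 := hpq w (by
              rw [update_cons_succ]
              exact hcons _ (htD j) _ (hV0 (hVsub hw)))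
            rwa [update_cons_succ] at h1)
        exact ⟨V', hV', hV'o, hV'ne, P, Q, hQ, hPQ⟩)
    choose! P Q hQ hPQ using hV1R
    have hQprod : (∏ j, Q j) ≠ 0 := Finset.prod_ne_zero_iff.2 fun j _ => hQ j (Finset.mem_univ _)
    -- shrink so that all the denominators are nonzero
    obtain ⟨z2, hz2, hz2'⟩ := (H869.Growth.dense_ne_zero _ hQprod).inter_open_nonempty V1 hV1o hV1ne
    set V2 : Set (Fin n → ℂ) := V1 ∩ {z | eval z (∏ j, Q j) ≠ 0} with hV2def
    have hV2o : IsOpen V2 := hV1o.inter (H869.Growth.isOpen_ne_zero _)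
    have hV2ne : V2.Nonempty := ⟨z2, hz2, hz2'⟩
    have hV2Q : ∀ z ∈ V2, ∀ j, eval z (Q j) ≠ 0 := by
      intro z hz j
      have := hz.2
      rw [Set.mem_ofPred_eq, map_prod, Finset.prod_ne_zero_iff] at this
      exact this j (Finset.mem_univ _)
    -- the solution over the polynomial ring
    obtain ⟨p, q, hpq0, hpq⟩ := exists_solution (A := MvPolynomial (Fin n) ℂ) N (fun j => C (t j)) P Q
    have heval : ∀ (u : Fin (N + 1) → MvPolynomial (Fin n) ℂ) (z : Fin n → ℂ) (w : ℂ),
        eval z (evl u (C w)) = evl (fun k => eval z (u k)) w := by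
      intro u z w
      simp [evl, map_sum]
    have heval' : ∀ (u : Fin (N + 1) → MvPolynomial (Fin n) ℂ) (z : Fin n → ℂ) (w : ℂ),
        eval (Fin.cons w z : Fin (n + 1) → ℂ) ((finSuccEquiv ℂ n).symm (toPoly u)) =
          evl (fun k => eval z (u k)) w := by
      intro u z w
      rw [H869.Growth.eval_cons_eq, AlgEquiv.apply_symm_apply, eval_toPoly, heval]
    -- the relation at all points of `V2 × D`
    have hmain : ∀ z ∈ V2, ∀ w ∈ D, evl (fun k => eval z (q k)) w * f (Fin.cons w z) =
        evl (fun k => eval z (p k)) w := by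
      intro z hz
      obtain ⟨x, hxU0, hxz⟩ := hV1 hz.1
      obtain ⟨p0, q0, hpq0', hp0, hq0, hrel⟩ := hU0 x hxU0
      rw [hxz] at hrel
      have hzB : z ∈ B := hxz ▸ x.2
      have hq0ne : q0 ≠ 0 := by
        rintro rfl
        refine hpq0'.elim (fun h => h ?_) (fun h => h rfl)
        refine Polynomial.eq_zero_of_infinite_isRoot _ (hDinf.mono fun w hw => ?_)
        rw [Set.mem_ofPred_eq, Polynomial.IsRoot.def, ← hrel w hw]
        simp
      have hnode : ∀ j, evl (fun k => eval z (p k)) (t j) =
          f (Fin.cons (t j) z) * evl (fun k => eval z (q k)) (t j) := by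
        intro j
        have h1 := congrArg (eval z) (hpq j)
        rw [map_mul, map_mul, heval, heval, ← hPQ j (Finset.mem_univ _) z hz.1, mul_assoc] at h1
        exact mul_left_cancel₀ (hV2Q z hz j) h1
      have hpoly : toPoly (fun k => eval z (p k)) * q0 = p0 * toPoly (fun k => eval z (q k)) := by
        rw [← sub_eq_zero]
        refine Polynomial.eq_zero_of_natDegree_lt_card_of_eval_eq_zero _ htinj (fun j => ?_) ?_
        · rw [Polynomial.eval_sub, Polynomial.eval_mul, Polynomial.eval_mul, eval_toPoly,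
            eval_toPoly, hnode j, ← hrel _ (htD j)]
          ring
        · rw [Fintype.card_fin]
          refine Nat.lt_succ_of_le ((Polynomial.natDegree_sub_le _ _).trans (max_le ?_ ?_))
          · refine Polynomial.natDegree_mul_le.trans ?_
            have := natDegree_toPoly_le (fun k => eval z (p k))
            omega
          · refine Polynomial.natDegree_mul_le.trans ?_
            have := natDegree_toPoly_le (fun k => eval z (q k))
            omega
      refine eqOn_of_finite hDo (T := {w | Polynomial.IsRoot q0 w}) ?_ ?_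
        (Polynomial.finite_setOfPred_isRoot hq0ne) (fun w hw hwT => ?_)
      · exact ContinuousOn.mul (continuous_evl _).continuousOn (hcontw z hzB)
      · exact (continuous_evl _).continuousOn
      · have h1 := congrArg (Polynomial.eval w) hpoly
        rw [Polynomial.eval_mul, Polynomial.eval_mul, eval_toPoly, eval_toPoly, ← hrel w hw] at h1
        have h2 : q0.eval w ≠ 0 := hwT
        refine mul_left_cancel₀ h2 ?_
        linear_combination -h1
    -- conclusion
    refine ⟨(finSuccEquiv ℂ n).symm (toPoly p), (finSuccEquiv ℂ n).symm (toPoly q), ?_,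
      {z | z 0 ∈ D ∧ Fin.tail z ∈ V2}, ?_, ?_, ?_, ?_⟩
    · intro hq
      have hq' : toPoly q = 0 := by simpa using hq
      have hq0 : q = 0 := toPoly_eq_zero hq'
      refine hpq0.elim (fun hp => hp ?_) (fun h => h hq0)
      -- `p` vanishes on a nonempty open set
      funext k
      by_contra hpk
      obtain ⟨z, hz, hz'⟩ := (H869.Growth.dense_ne_zero _ hpk).inter_open_nonempty V2 hV2o hV2ne
      apply hz'
      have h1 : toPoly (fun k => eval z (p k)) = 0 := by
        refine Polynomial.eq_zero_of_infinite_isRoot _ (hDinf.mono fun w hw => ?_)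
        rw [Set.mem_ofPred_eq, Polynomial.IsRoot.def, eval_toPoly, ← hmain z hz w hw, hq0]
        simp [evl]
      exact congrFun (toPoly_eq_zero h1) k
    · rintro z ⟨h1, h2⟩
      have h3 := hcons _ h1 _ (hV0 (hV1 h2.1))
      rwa [Fin.cons_self_tail] at h3
    · exact (hDo.preimage (continuous_apply 0)).inter
        (hV2o.preimage (f := fun z : Fin (n + 1) → ℂ => (Fin.tail z : Fin n → ℂ))
          (continuous_pi fun i : Fin n => continuous_apply i.succ))
    · obtain ⟨z, hz⟩ := hV2ne
      exact ⟨Fin.cons (z1 0) z, Metric.mem_ball_self hr, by simpa using hz⟩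
    · rintro z ⟨h1, h2⟩
      have h3 := hmain _ h2 _ h1
      rw [← heval', ← heval', Fin.cons_self_tail] at h3
      exact h3

/-- **Separately rational continuous functions are rational.** -/
theorem exists_rational (n : ℕ) (z0 : Fin n → ℂ) (r : ℝ) (hr : 0 < r) (f : (Fin n → ℂ) → ℂ)
    (hf : ContinuousOn f (Metric.ball z0 r))
    (hsep : ∀ c ∈ Metric.ball z0 r, ∀ i, ∃ p q : Polynomial ℂ, q ≠ 0 ∧
      ∀ w ∈ Metric.ball (z0 i) r, q.eval w * f (Function.update c i w) = p.eval w) :
    ∃ P Q : MvPolynomial (Fin n) ℂ, Q ≠ 0 ∧ ∃ (z1 : Fin n → ℂ) (r1 : ℝ), 0 < r1 ∧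
      Metric.ball z1 r1 ⊆ Metric.ball z0 r ∧
      ∀ z ∈ Metric.ball z1 r1, eval z Q * f z = eval z P := by
  obtain ⟨P, Q, hQ, V, hV, hVo, ⟨z1, hz1⟩, h⟩ := exists_rational_open n f (Metric.ball z0 r)
    Metric.isOpen_ball ⟨z0, Metric.mem_ball_self hr⟩ hf (by
      intro c hc i
      obtain ⟨p, q, hq, hpq⟩ := hsep c hc i
      refine ⟨p, q, hq, fun w hw => hpq w ?_⟩
      have h1 := (dist_pi_lt_iff hr).1 (Metric.mem_ball.1 hw) i
      rwa [Function.update_self] at h1)
  obtain ⟨r1, hr1, hball⟩ := Metric.isOpen_iff.1 hVo z1 hz1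
  exact ⟨P, Q, hQ, z1, r1, hr1, hball.trans hV, fun z hz => h z (hball hz)⟩

end Groth.Agent.Gaga.H563.SepRat
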